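import Mathlib

/-!
# A finite group acting on the Cayley tree of a free group without inversions fixes a vertex

Word-norm only: `d u v = norm (u⁻¹ * v)`.
-/

set_option autoImplicit false

namespace Cfsg.Agent.Lib.Helper34.LSF

open FreeGroup

variable {α : Type*} [DecidableEq α]

theorem norm_mk_of_isReduced {L : List (α × Bool)} (h : FreeGroup.IsReduced L) :
    FreeGroup.norm (FreeGroup.mk L) = L.length := by
  rw [FreeGroup.norm, FreeGroup.toWord_mk, h.reduce_eq]

theorem norm_mul_parity (x y : FreeGroup α) :
    (FreeGroup.norm (x * y)) % 2 = (FreeGroup.norm x + FreeGroup.norm y) % 2 := by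
  have h : FreeGroup.Red (x.toWord ++ y.toWord) (FreeGroup.reduce (x.toWord ++ y.toWord)) :=
    FreeGroup.reduce.red
  obtain ⟨n, hn⟩ := h.length
  rw [List.length_append] at hn
  have : FreeGroup.norm (x * y) = (FreeGroup.reduce (x.toWord ++ y.toWord)).length := by
    rw [FreeGroup.norm, FreeGroup.toWord_mul]
  rw [this]
  have h1 : FreeGroup.norm x = x.toWord.length := rfl
  have h2 : FreeGroup.norm y = y.toWord.length := rfl
  omega

/-- The tree inequality at the base point `1`: if `v` starts with the letter `y` and has norm at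
least two, then the vertex `mk [y]` is strictly closer to every `o` than the farther of `1`, `v`. -/
theorem tree_key (v o : FreeGroup α) (y : α × Bool) (L : List (α × Bool))
    (hv : v.toWord = y :: L) (hL : L ≠ []) :
    FreeGroup.norm (o⁻¹ * FreeGroup.mk [y]) + 1 ≤
      max (FreeGroup.norm o) (FreeGroup.norm (o⁻¹ * v)) := by
  have hLlen : 1 ≤ L.length := List.length_pos_iff.mpr hL
  have hnv : FreeGroup.norm v = L.length + 1 := by rw [FreeGroup.norm, hv]; rfl
  by_cases ho : ∃ L', o.toWord = y :: L'
  · obtain ⟨L', hL'⟩ := ho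
    have hred : FreeGroup.IsReduced L' := by
      have : FreeGroup.IsReduced o.toWord := FreeGroup.isReduced_toWord
      rw [hL'] at this
      exact this.infix ⟨[y], [], by simp⟩
    have ho_eq : o = FreeGroup.mk [y] * FreeGroup.mk L' := by
      rw [FreeGroup.mul_mk]
      have : FreeGroup.mk (o.toWord) = o := FreeGroup.mk_toWord
      rw [hL'] at this
      simpa using this.symm
    have h1 : o⁻¹ * FreeGroup.mk [y] = (FreeGroup.mk L')⁻¹ := by
      rw [ho_eq]; group
    have hno : FreeGroup.norm o = L'.length + 1 := by rw [FreeGroup.norm, hL']; rfl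
    rw [h1, FreeGroup.norm_inv_eq, norm_mk_of_isReduced hred]
    exact le_max_of_le_left (by omega)
  · -- no cancellation between `o⁻¹` and `v`
    have hred : FreeGroup.IsReduced (FreeGroup.invRev o.toWord ++ v.toWord) := by
      have hvr : FreeGroup.IsReduced v.toWord := FreeGroup.isReduced_toWord
      have hor : FreeGroup.IsReduced (FreeGroup.invRev o.toWord) := by
        rw [← FreeGroup.toWord_inv]; exact FreeGroup.isReduced_toWord
      rcases hW : o.toWord with _ | ⟨w, W'⟩
      · simpa [FreeGroup.invRev] using hvr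
      · have hwy : w ≠ y := fun h => ho ⟨W', by rw [hW, h]⟩
        rw [hW] at hor
        rw [FreeGroup.invRev_cons] at hor ⊢
        have h2 : FreeGroup.IsReduced (FreeGroup.invRev [w] ++ v.toWord) := by
          rw [hv]
          have : FreeGroup.invRev [w] = [(w.1, !w.2)] := by simp [FreeGroup.invRev]
          rw [this]
          show FreeGroup.IsReduced ((w.1, !w.2) :: y :: L)
          rw [FreeGroup.isReduced_cons_cons]
          refine ⟨?_, by rw [← hv]; exact hvr⟩
          intro h1
          simp only at h1 ⊢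
          by_contra h3
          apply hwy
          have : w.2 = y.2 := by
            cases hw2 : w.2 <;> cases hy2 : y.2 <;> simp_all
          exact Prod.ext h1 this
        exact FreeGroup.IsReduced.append_overlap hor h2 (by simp [FreeGroup.invRev])
    have hn : FreeGroup.norm (o⁻¹ * v) = FreeGroup.norm o + FreeGroup.norm v := by
      rw [FreeGroup.norm, FreeGroup.toWord_mul, FreeGroup.toWord_inv, hred.reduce_eq,
        List.length_append, FreeGroup.invRev_length]
      rfl
    have h1 : FreeGroup.norm (o⁻¹ * FreeGroup.mk [y]) ≤ FreeGroup.norm o + 1 := by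
      have := FreeGroup.norm_mul_le o⁻¹ (FreeGroup.mk [y])
      have h2 : FreeGroup.norm (FreeGroup.mk [y]) = 1 := by
        rw [norm_mk_of_isReduced FreeGroup.IsReduced.singleton]; rfl
      rw [FreeGroup.norm_inv_eq, h2] at this
      exact this
    exact le_max_of_le_right (by omega)

/-- Tree inequality, general base point: if `d u v ≥ 2` there is a vertex `m` that is strictly
closer to every `o` than the farther of `u`, `v`. -/
theorem tree_mid (u v : FreeGroup α) (h : 2 ≤ FreeGroup.norm (u⁻¹ * v)) :
    ∃ m : FreeGroup α, ∀ o : FreeGroup α,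
      FreeGroup.norm (m⁻¹ * o) + 1 ≤
        max (FreeGroup.norm (u⁻¹ * o)) (FreeGroup.norm (v⁻¹ * o)) := by
  rcases hW : (u⁻¹ * v).toWord with _ | ⟨y, L⟩
  · rw [FreeGroup.norm, hW] at h; simp at h
  · have hL : L ≠ [] := by
      rintro rfl
      rw [FreeGroup.norm, hW] at h; simp at h
    refine ⟨u * FreeGroup.mk [y], fun o => ?_⟩
    have key := tree_key (u⁻¹ * v) (u⁻¹ * o) y L hW hL
    have e1 : (u⁻¹ * o)⁻¹ * FreeGroup.mk [y] = ((u * FreeGroup.mk [y])⁻¹ * o)⁻¹ := by group
    have e2 : (u⁻¹ * o)⁻¹ * (u⁻¹ * v) = (v⁻¹ * o)⁻¹ := by group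
    rw [e1, e2, FreeGroup.norm_inv_eq, FreeGroup.norm_inv_eq] at key
    exact key

/-- **Fixed point theorem**: a finite group acting on the vertices of the Cayley tree of a free
group by isometries (for the word metric) and without inverting an edge fixes a vertex. -/
theorem exists_fixed_point {H : Type*} [Group H] [Finite H]
    (act : H → FreeGroup α → FreeGroup α)
    (hmul : ∀ g h w, act (g * h) w = act g (act h w))
    (hiso : ∀ h u v, FreeGroup.norm ((act h u)⁻¹ * act h v) = FreeGroup.norm (u⁻¹ * v))
    (hninv : ∀ h v, FreeGroup.norm (v⁻¹ * act h v) = 1 → act h (act h v) ≠ v) :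
    ∃ w, ∀ h, act h w = w := by
  classical
  have : Fintype H := Fintype.ofFinite H
  let R : FreeGroup α → ℕ := fun v => Finset.univ.sup fun h : H => FreeGroup.norm (v⁻¹ * act h 1)
  have hRle : ∀ v (h : H), FreeGroup.norm (v⁻¹ * act h 1) ≤ R v := fun v h =>
    Finset.le_sup (f := fun h : H => FreeGroup.norm (v⁻¹ * act h 1)) (Finset.mem_univ h)
  have hRinv : ∀ g v, R (act g v) ≤ R v := by
    intro g v
    apply Finset.sup_le
    intro h _
    have : act h 1 = act g (act (g⁻¹ * h) 1) := by rw [← hmul]; simp
    rw [this, hiso]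
    exact hRle v _
  obtain ⟨v, hv⟩ : ∃ v, ∀ u, R v ≤ R u := by
    obtain ⟨v, hv⟩ := Nat.sInf_mem (Set.range_nonempty R)
    exact ⟨v, fun u => hv ▸ Nat.sInf_le ⟨u, rfl⟩⟩
  -- two minimizers are at distance at most one
  have hclose : ∀ u u', (∀ x, R u ≤ R x) → (∀ x, R u' ≤ R x) →
      FreeGroup.norm (u⁻¹ * u') ≤ 1 := by
    intro u u' hu hu'
    by_contra hcon
    push Not at hcon
    obtain ⟨m, hm⟩ := tree_mid u u' (by omega)
    have hRm : R m + 1 ≤ R u := by
      have hsup : R m ≤ R u - 1 := by
        apply Finset.sup_le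
        intro h _
        have h1 := hm (act h 1)
        have h2 := hRle u h
        have h3 := hRle u' h
        have h4 : R u' ≤ R u := hu' u
        have h5 : max (FreeGroup.norm (u⁻¹ * act h 1)) (FreeGroup.norm (u'⁻¹ * act h 1)) ≤ R u :=
          max_le h2 (h3.trans h4)
        omega
      have hpos : 1 ≤ R u := by
        have h1 := hm (act 1 1)
        have h2 := hRle u 1
        have h3 := hRle u' 1
        have h4 : R u' ≤ R u := hu' u
        have h5 : max (FreeGroup.norm (u⁻¹ * act 1 1)) (FreeGroup.norm (u'⁻¹ * act 1 1)) ≤ R u :=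
          max_le h2 (h3.trans h4)
        omega
      omega
    have := hu m
    omega
  have hmin : ∀ g, ∀ x, R (act g v) ≤ R x := fun g x => (hRinv g v).trans (hv x)
  refine ⟨v, fun g => ?_⟩
  by_contra hne
  have h1 : FreeGroup.norm (v⁻¹ * act g v) = 1 := by
    have hle := hclose v (act g v) hv (hmin g)
    have hne0 : FreeGroup.norm (v⁻¹ * act g v) ≠ 0 := by
      rw [Ne, FreeGroup.norm_eq_zero]
      intro h0
      apply hne
      have : act g v = v * (v⁻¹ * act g v) := by group
      rw [this, h0, mul_one]
    omega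
  apply hninv g v h1
  -- distances: d(v, gv) = 1, d(gv, ggv) = 1, d(v, ggv) ≤ 1 and even
  have h2 : FreeGroup.norm ((act g v)⁻¹ * act g (act g v)) = 1 := by rw [hiso]; exact h1
  have h3 : FreeGroup.norm (v⁻¹ * act g (act g v)) ≤ 1 := by
    have := hclose v (act (g * g) v) hv (hmin (g * g))
    rwa [hmul] at this
  have hpar := norm_mul_parity (v⁻¹ * act g v) ((act g v)⁻¹ * act g (act g v))
  have e : v⁻¹ * act g v * ((act g v)⁻¹ * act g (act g v)) = v⁻¹ * act g (act g v) := by group
  rw [e, h1, h2] at hpar
  have h0 : FreeGroup.norm (v⁻¹ * act g (act g v)) = 0 := by omega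
  rw [FreeGroup.norm_eq_zero] at h0
  have : act g (act g v) = v * (v⁻¹ * act g (act g v)) := by group
  rw [this, h0, mul_one]

end Cfsg.Agent.Lib.Helper34.LSF
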