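import Mathlib
import Cfsg.Agent.Lib.Helper34.LSF.TreeFix

/-!
# Finite subgroups of `FreeGroup X ⋊ Q` (with `Q` permuting the basis) are conjugate into `Q`
-/

set_option autoImplicit false

namespace Cfsg.Agent.Lib.Helper34.LSF

theorem isReduced_map {α : Type*} {β : Type*} (f : α → β) (hf : Function.Injective f)
    {L : List (α × Bool)} (h : FreeGroup.IsReduced L) :
    FreeGroup.IsReduced (L.map fun x => (f x.1, x.2)) := by
  unfold FreeGroup.IsReduced at h ⊢
  rw [List.isChain_map]
  refine h.imp ?_
  intro a b hab h1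
  exact hab (hf h1)

variable {α : Type*} [DecidableEq α]

theorem norm_map {β : Type*} [DecidableEq β] (f : α → β) (hf : Function.Injective f)
    (w : FreeGroup α) : FreeGroup.norm (FreeGroup.map f w) = FreeGroup.norm w := by
  conv_lhs => rw [← FreeGroup.mk_toWord (x := w)]
  rw [FreeGroup.map.mk, norm_mk_of_isReduced (isReduced_map f hf FreeGroup.isReduced_toWord),
    List.length_map]
  rfl

/-- A group automorphism of a free group that maps generators to generators preserves the
word norm. -/
theorem norm_aut_of_gens (e : MulAut (FreeGroup α)) (s : α → α)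
    (hs : ∀ x, e (FreeGroup.of x) = FreeGroup.of (s x)) (w : FreeGroup α) :
    FreeGroup.norm (e w) = FreeGroup.norm w := by
  have hhom : (e.toMonoidHom : FreeGroup α →* FreeGroup α) = FreeGroup.map s := by
    ext x
    simp [hs]
  have hinj : Function.Injective s := by
    intro x y hxy
    have : e (FreeGroup.of x) = e (FreeGroup.of y) := by rw [hs, hs, hxy]
    exact FreeGroup.of_injective (e.injective this)
  have : e w = FreeGroup.map s w := by
    rw [← hhom]; rfl
  rw [this, norm_map s hinj]

/-- A generator-permuting automorphism never sends a letter to its inverse. -/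
theorem letter_mul_aut_ne_one (e : MulAut (FreeGroup α)) (s : α → α)
    (hs : ∀ x, e (FreeGroup.of x) = FreeGroup.of (s x)) (t : FreeGroup α)
    (ht : FreeGroup.norm t = 1) : t * e t ≠ 1 := by
  have hpar := norm_mul_parity t (e t)
  rw [norm_aut_of_gens e s hs t, ht] at hpar
  -- need more than parity: the product has norm exactly two
  rcases hW : t.toWord with _ | ⟨y, L⟩
  · rw [FreeGroup.norm, hW] at ht; simp at ht
  · have hL : L = [] := by
      rw [FreeGroup.norm, hW] at ht
      simpa using ht
    subst hL
    have ht' : t = FreeGroup.mk [y] := by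
      rw [← hW]; exact FreeGroup.mk_toWord.symm
    have hhom : (e.toMonoidHom : FreeGroup α →* FreeGroup α) = FreeGroup.map s := by
      ext x
      simp [hs]
    have het : e t = FreeGroup.mk [(s y.1, y.2)] := by
      have : e t = FreeGroup.map s t := by rw [← hhom]; rfl
      rw [this, ht', FreeGroup.map.mk]; rfl
    rw [het, ht', FreeGroup.mul_mk]
    intro h1
    have hred : FreeGroup.IsReduced ([y] ++ [(s y.1, y.2)]) := by
      show FreeGroup.IsReduced (y :: [(s y.1, y.2)])
      rw [FreeGroup.isReduced_cons_cons]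
      exact ⟨fun _ => rfl, FreeGroup.IsReduced.singleton⟩
    have h2 := norm_mk_of_isReduced hred
    rw [h1] at h2
    simp at h2

/-- **Finite subgroups of `FreeGroup X ⋊[φ] Q` fix a vertex**, when every `φ q` maps generators
to generators. -/
theorem exists_fixed_of_finite_subgroup {Q : Type*} [Group Q]
    (φ : Q →* MulAut (FreeGroup α)) (σ : Q → α → α)
    (hσ : ∀ q x, φ q (FreeGroup.of x) = FreeGroup.of (σ q x))
    (K : Subgroup (FreeGroup α ⋊[φ] Q)) [Finite K] :
    ∃ w : FreeGroup α, ∀ k ∈ K, k.left * φ k.right w = w := by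
  have key := exists_fixed_point (H := K)
    (fun k w => (k : FreeGroup α ⋊[φ] Q).left * φ (k : FreeGroup α ⋊[φ] Q).right w)
    (by
      intro g h w
      simp [mul_assoc])
    (by
      intro h u v
      have : ((h : FreeGroup α ⋊[φ] Q).left * φ (h : FreeGroup α ⋊[φ] Q).right u)⁻¹ *
          ((h : FreeGroup α ⋊[φ] Q).left * φ (h : FreeGroup α ⋊[φ] Q).right v) =
          φ (h : FreeGroup α ⋊[φ] Q).right (u⁻¹ * v) := by
        rw [_root_.map_mul, _root_.map_inv]; group
      rw [this]
      exact norm_aut_of_gens _ (σ _) (hσ _) _)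
    (by
      intro h v h1 h2
      set f := (h : FreeGroup α ⋊[φ] Q).left with hf
      set q := (h : FreeGroup α ⋊[φ] Q).right with hq
      set t := v⁻¹ * (f * φ q v) with ht
      have e1 : f * φ q v = v * t := by rw [ht]; group
      have h3 : f * φ q (f * φ q v) = v * (t * φ q t) := by
        rw [e1, _root_.map_mul]
        rw [← mul_assoc, e1]; group
      rw [h3] at h2
      have h4 : t * φ q t = 1 := by
        have := congrArg (fun z => v⁻¹ * z) h2
        simpa using this
      exact letter_mul_aut_ne_one (φ q) (σ q) (hσ q) t h1 h4)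
  obtain ⟨w, hw⟩ := key
  exact ⟨w, fun k hk => hw ⟨k, hk⟩⟩

/-- Conjugation form: a finite subgroup of `FreeGroup X ⋊[φ] Q` is conjugate, by an element of
the free normal subgroup, into `Q`. -/
theorem exists_conj_into_right {Q : Type*} [Group Q]
    (φ : Q →* MulAut (FreeGroup α)) (σ : Q → α → α)
    (hσ : ∀ q x, φ q (FreeGroup.of x) = FreeGroup.of (σ q x))
    (K : Subgroup (FreeGroup α ⋊[φ] Q)) [Finite K] :
    ∃ w : FreeGroup α, ∀ k ∈ K,
      (SemidirectProduct.inl w : FreeGroup α ⋊[φ] Q)⁻¹ * k * SemidirectProduct.inl w =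
        SemidirectProduct.inr k.right := by
  obtain ⟨w, hw⟩ := exists_fixed_of_finite_subgroup φ σ hσ K
  refine ⟨w, fun k hk => ?_⟩
  have h := hw k hk
  apply SemidirectProduct.ext
  · have h5 : ((SemidirectProduct.inl w : FreeGroup α ⋊[φ] Q)⁻¹ * k *
        SemidirectProduct.inl w).left = w⁻¹ * (k.left * φ k.right w) := by
      simp [mul_assoc]
    rw [h5, h]; simp
  · simp

end Cfsg.Agent.Lib.Helper34.LSF
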