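import Mathlib
import Cfsg.Agent.Lib.Helper34.LSF.SemiFix

/-!
# Fixed points inside an invariant convex set of vertices of the Cayley tree
-/

set_option autoImplicit false

namespace Cfsg.Agent.Lib.Helper34.LSF

variable {α : Type*} [DecidableEq α]

/-- Tree inequality with the explicit middle vertex `u * mk [y]`, `y` the first letter of
`u⁻¹ * v`. -/
theorem tree_mid_explicit (u v : FreeGroup α) (y : α × Bool) (L : List (α × Bool))
    (hW : (u⁻¹ * v).toWord = y :: L) (hL : L ≠ []) (o : FreeGroup α) :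
    FreeGroup.norm ((u * FreeGroup.mk [y])⁻¹ * o) + 1 ≤
      max (FreeGroup.norm (u⁻¹ * o)) (FreeGroup.norm (v⁻¹ * o)) := by
  have key := tree_key (u⁻¹ * v) (u⁻¹ * o) y L hW hL
  have e1 : (u⁻¹ * o)⁻¹ * FreeGroup.mk [y] = ((u * FreeGroup.mk [y])⁻¹ * o)⁻¹ := by group
  have e2 : (u⁻¹ * o)⁻¹ * (u⁻¹ * v) = (v⁻¹ * o)⁻¹ := by group
  rw [e1, e2, FreeGroup.norm_inv_eq, FreeGroup.norm_inv_eq] at key
  exact key

/-- **Fixed point theorem, relative version**: a finite group acting on a nonempty convex set `T`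
of vertices of the Cayley tree of a free group, by isometries and without edge inversions, fixes
a vertex of `T`.  Convexity is stated as: for `u v ∈ T`, the first vertex after `u` on the
geodesic from `u` to `v` lies in `T`. -/
theorem exists_fixed_point_in {H : Type*} [Group H] [Finite H]
    (act : H → FreeGroup α → FreeGroup α) (T : Set (FreeGroup α)) (hne : T.Nonempty)
    (hT : ∀ h, ∀ v ∈ T, act h v ∈ T)
    (hconv : ∀ u ∈ T, ∀ v ∈ T, ∀ (y : α × Bool) (L : List (α × Bool)),
      (u⁻¹ * v).toWord = y :: L → u * FreeGroup.mk [y] ∈ T)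
    (hmul : ∀ g h, ∀ w ∈ T, act (g * h) w = act g (act h w))
    (hiso : ∀ h, ∀ u ∈ T, ∀ v ∈ T,
      FreeGroup.norm ((act h u)⁻¹ * act h v) = FreeGroup.norm (u⁻¹ * v))
    (hninv : ∀ h, ∀ v ∈ T, FreeGroup.norm (v⁻¹ * act h v) = 1 → act h (act h v) ≠ v) :
    ∃ w ∈ T, ∀ h, act h w = w := by
  classical
  have : Fintype H := Fintype.ofFinite H
  obtain ⟨b, hb⟩ := hne
  let R : FreeGroup α → ℕ := fun v => Finset.univ.sup fun h : H => FreeGroup.norm (v⁻¹ * act h b)
  have hRle : ∀ v (h : H), FreeGroup.norm (v⁻¹ * act h b) ≤ R v := fun v h =>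
    Finset.le_sup (f := fun h : H => FreeGroup.norm (v⁻¹ * act h b)) (Finset.mem_univ h)
  have hRinv : ∀ g, ∀ v ∈ T, R (act g v) ≤ R v := by
    intro g v hv
    apply Finset.sup_le
    intro h _
    have : act h b = act g (act (g⁻¹ * h) b) := by rw [← hmul _ _ b hb]; simp
    rw [this, hiso g v hv _ (hT _ b hb)]
    exact hRle v _
  obtain ⟨v, hvT, hv⟩ : ∃ v ∈ T, ∀ u ∈ T, R v ≤ R u := by
    obtain ⟨v, hvT, hv⟩ := Nat.sInf_mem (Set.image_nonempty.mpr ⟨b, hb⟩ : (R '' T).Nonempty)
    exact ⟨v, hvT, fun u hu => hv ▸ Nat.sInf_le ⟨u, hu, rfl⟩⟩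
  -- two minimizers are at distance at most one
  have hclose : ∀ u ∈ T, ∀ u' ∈ T, (∀ x ∈ T, R u ≤ R x) → (∀ x ∈ T, R u' ≤ R x) →
      FreeGroup.norm (u⁻¹ * u') ≤ 1 := by
    intro u huT u' hu'T hu hu'
    by_contra hcon
    push Not at hcon
    rcases hW : (u⁻¹ * u').toWord with _ | ⟨y, L⟩
    · rw [FreeGroup.norm, hW] at hcon; simp at hcon
    · have hL : L ≠ [] := by
        rintro rfl
        rw [FreeGroup.norm, hW] at hcon; simp at hcon
      have hmT : u * FreeGroup.mk [y] ∈ T := hconv u huT u' hu'T y L hW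
      have hm := tree_mid_explicit u u' y L hW hL
      have hRm : R (u * FreeGroup.mk [y]) + 1 ≤ R u := by
        have hsup : R (u * FreeGroup.mk [y]) ≤ R u - 1 := by
          apply Finset.sup_le
          intro h _
          have h1 := hm (act h b)
          have h2 := hRle u h
          have h3 := hRle u' h
          have h4 : R u' ≤ R u := hu' u huT
          have h5 : max (FreeGroup.norm (u⁻¹ * act h b)) (FreeGroup.norm (u'⁻¹ * act h b)) ≤ R u :=
            max_le h2 (h3.trans h4)
          omega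
        have hpos : 1 ≤ R u := by
          have h1 := hm (act 1 b)
          have h2 := hRle u 1
          have h3 := hRle u' 1
          have h4 : R u' ≤ R u := hu' u huT
          have h5 : max (FreeGroup.norm (u⁻¹ * act 1 b)) (FreeGroup.norm (u'⁻¹ * act 1 b)) ≤ R u :=
            max_le h2 (h3.trans h4)
          omega
        omega
      have := hu _ hmT
      omega
  have hmin : ∀ g, ∀ x ∈ T, R (act g v) ≤ R x := fun g x hx => (hRinv g v hvT).trans (hv x hx)
  refine ⟨v, hvT, fun g => ?_⟩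
  by_contra hne
  have h1 : FreeGroup.norm (v⁻¹ * act g v) = 1 := by
    have hle := hclose v hvT (act g v) (hT g v hvT) hv (hmin g)
    have hne0 : FreeGroup.norm (v⁻¹ * act g v) ≠ 0 := by
      rw [Ne, FreeGroup.norm_eq_zero]
      intro h0
      apply hne
      have : act g v = v * (v⁻¹ * act g v) := by group
      rw [this, h0, mul_one]
    omega
  apply hninv g v hvT h1
  have h2 : FreeGroup.norm ((act g v)⁻¹ * act g (act g v)) = 1 := by
    rw [hiso g v hvT _ (hT g v hvT)]; exact h1
  have h3 : FreeGroup.norm (v⁻¹ * act g (act g v)) ≤ 1 := by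
    have := hclose v hvT (act (g * g) v) (hT _ v hvT) hv (hmin (g * g))
    rwa [hmul g g v hvT] at this
  have hpar := norm_mul_parity (v⁻¹ * act g v) ((act g v)⁻¹ * act g (act g v))
  have e : v⁻¹ * act g v * ((act g v)⁻¹ * act g (act g v)) = v⁻¹ * act g (act g v) := by group
  rw [e, h1, h2] at hpar
  have h0 : FreeGroup.norm (v⁻¹ * act g (act g v)) = 0 := by omega
  rw [FreeGroup.norm_eq_zero] at h0
  have : act g (act g v) = v * (v⁻¹ * act g (act g v)) := by group
  rw [this, h0, mul_one]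

end Cfsg.Agent.Lib.Helper34.LSF
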