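import Mathlib
import Cfsg.Agent.Lib.Helper34.LSF.TreeFixIn

/-!
# Finite subgroups of a subgroup `G₀ ≤ FreeGroup X ⋊ Q` fix a vertex of the orbit `G₀ • 1`
-/

set_option autoImplicit false

namespace Cfsg.Agent.Lib.Helper34.LSF

variable {α : Type*} [DecidableEq α]

theorem aut_eq_map (e : MulAut (FreeGroup α)) (s : α → α)
    (hs : ∀ x, e (FreeGroup.of x) = FreeGroup.of (s x)) (w : FreeGroup α) :
    e w = FreeGroup.map s w := by
  have hhom : (e.toMonoidHom : FreeGroup α →* FreeGroup α) = FreeGroup.map s := by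
    ext x
    simp [hs]
  rw [← hhom]; rfl

theorem inj_of_aut (e : MulAut (FreeGroup α)) (s : α → α)
    (hs : ∀ x, e (FreeGroup.of x) = FreeGroup.of (s x)) : Function.Injective s := by
  intro x y hxy
  have : e (FreeGroup.of x) = e (FreeGroup.of y) := by rw [hs, hs, hxy]
  exact FreeGroup.of_injective (e.injective this)

theorem toWord_map_of_injective {β : Type*} [DecidableEq β] (f : α → β)
    (hf : Function.Injective f) (w : FreeGroup α) :
    (FreeGroup.map f w).toWord = w.toWord.map fun x => (f x.1, x.2) := by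
  conv_lhs => rw [← FreeGroup.mk_toWord (x := w)]
  rw [FreeGroup.map.mk, FreeGroup.toWord_mk,
    (isReduced_map f hf FreeGroup.isReduced_toWord).reduce_eq]

/-- **Relative fixed point theorem for subgroups of `FreeGroup X ⋊[φ] Q`** (`Q` permuting the
basis).  Let `G₀` be a subgroup such that the first letter of the left component of any element
of `G₀` is again the left component of an element of `G₀` (so the orbit `G₀ • 1` is a subtree).
Then every finite subgroup `K ≤ G₀` is conjugate, by an element of `G₀`, into `G₀ ∩ Q`. -/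
theorem exists_conj_fix_in_subgroup {Q : Type*} [Group Q]
    (φ : Q →* MulAut (FreeGroup α)) (σ : Q → α → α)
    (hσ : ∀ q x, φ q (FreeGroup.of x) = FreeGroup.of (σ q x))
    (G₀ : Subgroup (FreeGroup α ⋊[φ] Q))
    (hpc : ∀ g ∈ G₀, ∀ (y : α × Bool) (L : List (α × Bool)), g.left.toWord = y :: L →
      ∃ g' ∈ G₀, g'.left = FreeGroup.mk [y])
    (K : Subgroup (FreeGroup α ⋊[φ] Q)) [Finite K] (hK : K ≤ G₀) :
    ∃ g ∈ G₀, ∀ k ∈ K, (g⁻¹ * k * g).left = 1 := by
  let T : Set (FreeGroup α) := {w | ∃ g ∈ G₀, g.left = w}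
  have key := exists_fixed_point_in (H := K)
    (fun k w => (k : FreeGroup α ⋊[φ] Q).left * φ (k : FreeGroup α ⋊[φ] Q).right w) T
    ⟨1, 1, G₀.one_mem, rfl⟩
    (by
      rintro k w ⟨g, hg, rfl⟩
      exact ⟨(k : FreeGroup α ⋊[φ] Q) * g, G₀.mul_mem (hK k.2) hg, by simp⟩)
    (by
      rintro u ⟨g, hg, rfl⟩ v ⟨g', hg', rfl⟩ y L hW
      have hh : (g⁻¹ * g').left = φ g.right⁻¹ (g.left⁻¹ * g'.left) := by
        simp
      have hinj := inj_of_aut (φ g.right⁻¹) (σ g.right⁻¹) (hσ _)
      have hword : (g⁻¹ * g').left.toWord =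
          (σ g.right⁻¹ y.1, y.2) :: L.map (fun x => (σ g.right⁻¹ x.1, x.2)) := by
        rw [hh, aut_eq_map (φ g.right⁻¹) (σ g.right⁻¹) (hσ _), toWord_map_of_injective _ hinj, hW]
        rfl
      obtain ⟨g'', hg'', hl⟩ := hpc _ (G₀.mul_mem (G₀.inv_mem hg) hg') _ _ hword
      refine ⟨g * g'', G₀.mul_mem hg hg'', ?_⟩
      rw [SemidirectProduct.mul_left, hl, aut_eq_map (φ g.right) (σ g.right) (hσ _),
        FreeGroup.map.mk]
      have hss : σ g.right (σ g.right⁻¹ y.1) = y.1 := by
        have h1 : φ g.right (φ g.right⁻¹ (FreeGroup.of y.1)) = FreeGroup.of y.1 := by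
          rw [← MulAut.mul_apply, ← map_mul]; simp
        rw [hσ, hσ] at h1
        exact FreeGroup.of_injective h1
      simp [hss])
    (by
      intro g h w _
      simp [mul_assoc])
    (by
      intro h u _ v _
      have : ((h : FreeGroup α ⋊[φ] Q).left * φ (h : FreeGroup α ⋊[φ] Q).right u)⁻¹ *
          ((h : FreeGroup α ⋊[φ] Q).left * φ (h : FreeGroup α ⋊[φ] Q).right v) =
          φ (h : FreeGroup α ⋊[φ] Q).right (u⁻¹ * v) := by
        rw [_root_.map_mul, _root_.map_inv]; group
      rw [this]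
      exact norm_aut_of_gens _ (σ _) (hσ _) _)
    (by
      intro h v _ h1 h2
      set f := (h : FreeGroup α ⋊[φ] Q).left with hf
      set q := (h : FreeGroup α ⋊[φ] Q).right with hq
      set t := v⁻¹ * (f * φ q v) with ht
      have e1 : f * φ q v = v * t := by rw [ht]; group
      have h3 : f * φ q (f * φ q v) = v * (t * φ q t) := by
        rw [e1, _root_.map_mul]
        rw [← mul_assoc, e1]; group
      rw [h3] at h2
      have h4 : t * φ q t = 1 := by
        have := congrArg (fun z => v⁻¹ * z) h2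
        simpa using this
      exact letter_mul_aut_ne_one (φ q) (σ q) (hσ q) t h1 h4)
  obtain ⟨w, ⟨g, hg, rfl⟩, hw⟩ := key
  refine ⟨g, hg, fun k hk => ?_⟩
  have h := hw ⟨k, hk⟩
  simp only at h
  have h5 : (g⁻¹ * k * g).left = φ g.right⁻¹ (g.left⁻¹ * (k.left * φ k.right g.left)) := by
    simp [mul_assoc]
  rw [h5, h]; simp

end Cfsg.Agent.Lib.Helper34.LSF
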