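import Mathlib
import Cfsg.Agent.Lib.Helper34.LSF.OrbitFix
import Cfsg.Agent.Lib.Helper67.LSF.Defs

/-!
# LSF package [TREE] (unconditional)
-/

set_option autoImplicit false

namespace Cfsg.Agent.Lib.Helper34.LSF

open Cfsg.Agent.Lib.Helper67.LSF

universe u

theorem pkgTree : Cfsg.Agent.Lib.Helper67.LSF.PkgTree.{u} := by
  intro Q _ X α H _ V h1 hV hconv
  classical
  have hσ : ∀ (q : Q) (x : X), autX α q (FreeGroup.of x) = FreeGroup.of (α q x) :=
    fun q x => autX_of α q x
  have key := exists_fixed_point_in (α := X) (H := H)
    (fun k w => (k : SemidirectProduct (FreeGroup X) Q (autX α)).left *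
      autX α (k : SemidirectProduct (FreeGroup X) Q (autX α)).right w) V
    ⟨1, h1⟩
    (fun k v hv => hV k k.2 v hv)
    (by
      intro u hu v hv y L hW
      have hred : FreeGroup.IsReduced ([y] ++ L) := by
        have : FreeGroup.IsReduced (u⁻¹ * v).toWord := FreeGroup.isReduced_toWord
        rw [hW] at this
        exact this
      refine hconv u hu [y] L hred ?_
      have : FreeGroup.mk ([y] ++ L) = u⁻¹ * v := by
        have h2 : FreeGroup.mk ((u⁻¹ * v).toWord) = u⁻¹ * v := FreeGroup.mk_toWord
        rw [hW] at h2
        exact h2
      rw [this]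
      simpa using hv)
    (by
      intro g h w _
      simp [mul_assoc])
    (by
      intro h u _ v _
      have : ((h : SemidirectProduct (FreeGroup X) Q (autX α)).left *
            autX α (h : SemidirectProduct (FreeGroup X) Q (autX α)).right u)⁻¹ *
          ((h : SemidirectProduct (FreeGroup X) Q (autX α)).left *
            autX α (h : SemidirectProduct (FreeGroup X) Q (autX α)).right v) =
          autX α (h : SemidirectProduct (FreeGroup X) Q (autX α)).right (u⁻¹ * v) := by
        rw [_root_.map_mul, _root_.map_inv]; group
      rw [this]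
      exact norm_aut_of_gens _ (fun x => α _ x) (hσ _) _)
    (by
      intro h v _ h1 h2
      set f := (h : SemidirectProduct (FreeGroup X) Q (autX α)).left with hf
      set q := (h : SemidirectProduct (FreeGroup X) Q (autX α)).right with hq
      set t := v⁻¹ * (f * autX α q v) with ht
      have e1 : f * autX α q v = v * t := by rw [ht]; group
      have h3 : f * autX α q (f * autX α q v) = v * (t * autX α q t) := by
        rw [e1, _root_.map_mul]
        rw [← mul_assoc, e1]; group
      rw [h3] at h2
      have h4 : t * autX α q t = 1 := by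
        have := congrArg (fun z => v⁻¹ * z) h2
        simpa using this
      exact letter_mul_aut_ne_one (autX α q) (fun x => α q x) (hσ q) t h1 h4)
  obtain ⟨w, hw, hfix⟩ := key
  exact ⟨w, hw, fun k hk => hfix ⟨k, hk⟩⟩

end Cfsg.Agent.Lib.Helper34.LSF
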